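import Mathlib.LinearAlgebra.Matrix.Charpoly.Coeff
import Mathlib.LinearAlgebra.Matrix.NonsingularInverse
import Mathlib.FieldTheory.Finite.Basic
import Mathlib.Algebra.CharP.Lemmas
import Mathlib.RingTheory.IntegralClosure.IsIntegralClosure.Basic
import Mathlib.FieldTheory.IntermediateField.Adjoin.Basic
import Mathlib.LinearAlgebra.FiniteDimensional.Basic
import Mathlib.GroupTheory.OrderOfElement
import Mathlib.LinearAlgebra.Matrix.Charpoly.Minpoly

/-!
Frobenius on the prime-to-`p` parts of a commuting family of matrices over an algebraic extension of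
a finite field: a uniform power of Frobenius is the power map.
-/

set_option autoImplicit false
universe u

namespace Groth.Agent.Chevalley.FF

open Matrix

variable {k Ω : Type u} [Field k] [Finite k] [Field Ω] [Algebra k Ω] [Algebra.IsAlgebraic k Ω] {n : ℕ}

/-- Every element is fixed by a power of the `q`-power map. -/
theorem exists_period (a : Ω) : ∃ r : ℕ, 0 < r ∧ ∀ s : ℕ, r ∣ s → a ^ (Nat.card k ^ s) = a := by
  haveI := IntermediateField.adjoin.finiteDimensional (K := k) (Algebra.IsIntegral.isIntegral a)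
  let E := IntermediateField.adjoin k ({a} : Set Ω)
  haveI : Finite E := Module.finite_of_finite k
  haveI := Fintype.ofFinite E
  haveI := Fintype.ofFinite k
  refine ⟨Module.finrank k E, Module.finrank_pos, fun s ⟨t, ht⟩ => ?_⟩
  have hcard : Fintype.card E = Nat.card k ^ Module.finrank k E := by
    rw [Nat.card_eq_fintype_card]; exact Module.card_eq_pow_finrank
  have h : (⟨a, IntermediateField.mem_adjoin_simple_self k a⟩ : E) ^ (Fintype.card E ^ t) =
      ⟨a, IntermediateField.mem_adjoin_simple_self k a⟩ := FiniteField.pow_card_pow t _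
  rw [hcard, ← pow_mul, ← ht] at h
  exact congrArg Subtype.val h

variable (k) in
include k in
/-- An invertible matrix over an algebraic extension of a finite field has finite order. -/
theorem exists_pow_eq_one (X : Matrix (Fin n) (Fin n) Ω) (hX : IsUnit X) : ∃ d : ℕ, 0 < d ∧ X ^ d = 1 := by
  classical
  let S : Set Ω := Set.range fun ij : Fin n × Fin n => X ij.1 ij.2
  haveI : Finite S := (Set.finite_range _).to_subtype
  haveI := IntermediateField.finiteDimensional_adjoin (K := k) (S := S) fun y _ => Algebra.IsIntegral.isIntegral y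
  let E := IntermediateField.adjoin k S
  haveI : Finite E := Module.finite_of_finite k
  let X' : Matrix (Fin n) (Fin n) E := fun i j => ⟨X i j, IntermediateField.subset_adjoin k S ⟨(i, j), rfl⟩⟩
  have hX' : (algebraMap E Ω).mapMatrix X' = X := rfl
  have hu : IsUnit X' := by
    rw [Matrix.isUnit_iff_isUnit_det, isUnit_iff_ne_zero]
    intro h0
    have h1 := (Matrix.isUnit_iff_isUnit_det X).mp hX
    rw [← hX', ← RingHom.map_det, h0, map_zero] at h1
    exact not_isUnit_zero h1
  obtain ⟨v, hv⟩ := hu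
  refine ⟨orderOf v, orderOf_pos v, ?_⟩
  rw [← hX', ← map_pow, ← hv, ← Units.val_pow_eq_pow_val, pow_orderOf_eq_one, Units.val_one, map_one]

variable (k) in
include k in
/-- The prime-to-`p` part. -/
theorem exists_coprime_order {p : ℕ} [Fact p.Prime] [CharP Ω p] {m : ℕ} (hm : n ≤ p ^ m)
    (X : Matrix (Fin n) (Fin n) Ω) (hX : IsUnit X) :
    ∃ d : ℕ, 0 < d ∧ d.Coprime p ∧ (X ^ p ^ m) ^ d = 1 := by
  obtain ⟨d, hd, hd1⟩ := exists_pow_eq_one k X hX
  obtain ⟨a, e, he, rfl⟩ := Nat.exists_eq_pow_mul_and_not_dvd hd.ne' p (Fact.out : p.Prime).ne_one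
  have hp : p.Prime := Fact.out
  refine ⟨e, Nat.pos_of_ne_zero fun h => he (h ▸ dvd_zero p), ((hp.coprime_iff_not_dvd).mpr he).symm, ?_⟩
  rcases isEmpty_or_nonempty (Fin n) with h0 | h0
  · exact Subsingleton.elim _ _
  haveI : CharP (Matrix (Fin n) (Fin n) Ω) p := charP_of_injective_ringHom (f := Matrix.scalar (Fin n))
    (fun x y h => Matrix.scalar_inj.mp h) p
  set U := X ^ e with hU
  have h1 : (U - 1) ^ p ^ a = 0 := by
    rw [sub_pow_char_pow_of_commute p a (Commute.one_right U), ← pow_mul, one_pow, mul_comm, hd1, sub_self]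
  have h2 : (U - 1) ^ n = 0 := by
    have h3 := Matrix.isNilpotent_charpoly_sub_pow_of_isNilpotent (M := U - 1) ⟨_, h1⟩
    have h4 : (U - 1).charpoly = Polynomial.X ^ Fintype.card (Fin n) := sub_eq_zero.mp h3.eq_zero
    have h5 := Matrix.aeval_self_charpoly (U - 1)
    rw [h4, map_pow, Polynomial.aeval_X, Fintype.card_fin] at h5
    exact h5
  have h6 : (U - 1) ^ p ^ m = 0 := pow_eq_zero_of_le hm h2
  rw [sub_pow_char_pow_of_commute p m (Commute.one_right U), one_pow, sub_eq_zero] at h6
  rw [← pow_mul, mul_comm, pow_mul, h6]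

theorem exists_uniform {p e : ℕ} [Fact p.Prime] [CharP Ω p] (hq : Nat.card k = p ^ e)
    (S : Set (Matrix (Fin n) (Fin n) Ω)) (hS : ∀ X ∈ S, IsUnit X) (hcomm : ∀ X ∈ S, ∀ Y ∈ S, Commute X Y)
    {m : ℕ} (hm : n ≤ p ^ m) :
    ∃ D : ℕ, 0 < D ∧ ∀ r : ℕ, D ∣ r → ∀ X ∈ S,
      (X ^ p ^ m).map (fun a => a ^ Nat.card k ^ r) = (X ^ p ^ m) ^ Nat.card k ^ r := by
  classical
  let Y : Set (Matrix (Fin n) (Fin n) Ω) := (fun X => X ^ p ^ m) '' S
  obtain ⟨T, hTY, hT⟩ := Submodule.fg_span_iff_fg_span_finset_subset (R := Ω) Y |>.mp (IsNoetherian.noetherian _)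
  have hgood : ∀ y ∈ T, ∃ D : ℕ, 0 < D ∧ ∀ r, D ∣ r →
      y ^ Nat.card k ^ r = y ∧ y.map (fun a => a ^ Nat.card k ^ r) = y := by
    intro y hy
    obtain ⟨X, hX, rfl⟩ := hTY hy
    obtain ⟨d, hd, hdp, hd1⟩ := exists_coprime_order k hm X (hS X hX)
    choose per hper0 hper using fun ij : Fin n × Fin n => exists_period (k := k) ((X ^ p ^ m) ij.1 ij.2)
    refine ⟨d.totient * ∏ ij, per ij, Nat.mul_pos (Nat.totient_pos.mpr hd) (Finset.prod_pos fun ij _ => hper0 ij),
      fun r hr => ⟨?_, ?_⟩⟩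
    · have h1 : Nat.card k ^ r % d = 1 % d := by
        obtain ⟨t, rfl⟩ := hr
        rw [mul_assoc, pow_mul]
        have h2 : Nat.card k ^ d.totient ≡ 1 [MOD d] := Nat.ModEq.pow_totient (by rw [hq]; exact (hdp.pow_right e).symm)
        have h3 := h2.pow ((∏ ij, per ij) * t)
        rwa [one_pow] at h3
      rw [pow_eq_pow_mod _ hd1, h1, ← pow_eq_pow_mod _ hd1, pow_one]
    · ext i j
      exact hper (i, j) r ((dvd_mul_of_dvd_right (Finset.dvd_prod_of_mem _ (Finset.mem_univ _)) _).trans hr)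
  choose! D hD0 hD using hgood
  refine ⟨∏ y ∈ T, D y, Finset.prod_pos hD0, fun r hr X hX => ?_⟩
  set Q := Nat.card k ^ r with hQ
  have hQp : Q = p ^ (e * r) := by rw [hQ, hq, pow_mul]
  have hz : ∀ z ∈ Submodule.span Ω (T : Set (Matrix (Fin n) (Fin n) Ω)),
      z.map (fun a => a ^ Q) = z ^ Q ∧ ∀ y ∈ T, Commute z y := by
    intro z hzT
    induction hzT using Submodule.span_induction with
    | mem y hy =>
      refine ⟨?_, fun y' hy' => ?_⟩
      · have h := hD y hy r ((Finset.dvd_prod_of_mem _ hy).trans hr)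
        rw [h.1, h.2]
      · obtain ⟨X₁, hX₁, rfl⟩ := hTY hy
        obtain ⟨X₂, hX₂, rfl⟩ := hTY hy'
        exact (hcomm X₁ hX₁ X₂ hX₂).pow_pow _ _
    | zero =>
      refine ⟨?_, fun y _ => Commute.zero_left y⟩
      rw [zero_pow (by rw [hQp]; exact (pow_pos (Fact.out : p.Prime).pos _).ne')]
      ext i j
      simp [zero_pow (by rw [hQp]; exact (pow_pos (Fact.out : p.Prime).pos _).ne' : Q ≠ 0)]
    | add a b ha hb iha ihb =>
      refine ⟨?_, fun y hy => (iha.2 y hy).add_left (ihb.2 y hy)⟩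
      have hab : Commute a b := by
        refine Submodule.span_induction (fun y hy => iha.2 y hy) (Commute.zero_right a)
          (fun _ _ _ _ h₁ h₂ => h₁.add_right h₂) (fun c _ _ h => h.smul_right c) hb
      rcases isEmpty_or_nonempty (Fin n) with h0 | h0
      · exact Subsingleton.elim _ _
      haveI : CharP (Matrix (Fin n) (Fin n) Ω) p := charP_of_injective_ringHom (f := Matrix.scalar (Fin n))
        (fun x y h => Matrix.scalar_inj.mp h) p
      rw [hQp, add_pow_char_pow_of_commute p (e * r) hab, ← hQp, ← iha.1, ← ihb.1]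
      ext i j
      simp only [Matrix.map_apply, Matrix.add_apply, hQp]
      exact add_pow_char_pow ..
    | smul c a ha iha =>
      refine ⟨?_, fun y hy => (iha.2 y hy).smul_left c⟩
      rw [smul_pow, ← iha.1]
      ext i j
      simp [mul_pow]
  have hXY : X ^ p ^ m ∈ Submodule.span Ω (T : Set (Matrix (Fin n) (Fin n) Ω)) := by
    rw [← hT]; exact Submodule.subset_span ⟨X, hX, rfl⟩
  exact (hz _ hXY).1

end Groth.Agent.Chevalley.FF
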