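import Groth.Agent.Chevalley.FF.Matrix
import Groth.Agent.Chevalley.FF.MatrixFrob
import Groth.Agent.Chevalley.BC.Perfect
import Groth.Agent.Chevalley.BC.AffLib
import Groth.Agent.Chevalley.BC.Div
import Groth.Agent.AVFrobLib.Exist
import Groth.Agent.AVFrobLib.RH
import Groth.Agent.GrpSchLib.LineGroups
import Groth.Agent.GrpSchLib.AntiAffineQuot
import Groth.Agent.AlbQuotLib.Albanese
import Mathlib.RingTheory.Localization.Integral
import Mathlib.Analysis.Complex.Polynomial.Basic

/-!
Anti-affine groups over finite fields are abelian varieties.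
-/

set_option autoImplicit false
set_option backward.isDefEq.respectTransparency false
set_option maxHeartbeats 1000000
set_option linter.style.haveILetI false
universe u
open CategoryTheory CategoryTheory.Limits AlgebraicGeometry MonoidalCategory CartesianMonoidalCategory
open scoped MonObj
open Polynomial (X C aeval)

namespace Groth.Agent.Chevalley.FF

variable {k : Type u} [Field k] [Finite k]

local notation "Sch" => Over (Spec (CommRingCat.of k))

/-- The natural Frobenius over a finite field. -/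
theorem exists_natFrob :
    ∃ F : ∀ Y : Over (Spec (CommRingCat.of k)), Y ⟶ Y, (∀ {Y Z : Sch} (f : Y ⟶ Z), F Y ≫ f = f ≫ F Z) ∧
      (∀ (Y : Sch) [GrpObj Y], IsMonHom (F Y)) ∧ ∀ Y : Sch, WeilLib.IsPowMap (F Y).left (Nat.card k) := by
  haveI := Fintype.ofFinite k
  obtain ⟨p, hp⟩ := CharP.exists k
  obtain ⟨e, hprime, he⟩ := FiniteField.card k p
  haveI : Fact p.Prime := ⟨hprime⟩
  haveI : CharP (CommRingCat.of k) p := hp
  haveI hS : ∀ Y : Sch, FrobSch.IsCharP Y.left p := fun Y => FrobSch.IsCharP.of_hom Y.hom p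
  have hid : AVFrobLib.frobIter p (Spec (CommRingCat.of k)) e = 𝟙 _ := by
    rw [AVFrobLib.frobIter_spec, ← Spec.map_id]
    congr 1
    ext x
    show iterateFrobenius k p e x = x
    rw [iterateFrobenius_def, ← he, FiniteField.pow_card]
  let F : ∀ Y : Sch, Y ⟶ Y := fun Y => Over.homMk (AVFrobLib.frobIter p Y.left e) (by
    rw [AVFrobLib.frobIter_comp, hid, Category.comp_id])
  have hnat : ∀ {Y Z : Sch} (f : Y ⟶ Z), F Y ≫ f = f ≫ F Z := fun f =>
    Over.OverMorphism.ext (AVFrobLib.frobIter_comp p f.left e)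
  refine ⟨F, hnat, fun Y _ => { one_hom := ?_, mul_hom := ?_ }, fun Y => ?_⟩
  · rw [← hnat, show F (𝟙_ Sch) = 𝟙 _ from Over.OverMorphism.ext hid, Category.id_comp]
  · have hten : F (Y ⊗ Y) = F Y ⊗ₘ F Y := by
      apply CartesianMonoidalCategory.hom_ext
      · rw [tensorHom_fst, hnat]
      · rw [tensorHom_snd, hnat]
    rw [← hnat, hten]
  · rw [Nat.card_eq_fintype_card, he]
    exact AVFrobLib.isPowMap_frobIter p Y.left e

/-- Iterates of a family of endomorphisms. -/
noncomputable def iter (F : ∀ Y : Over (Spec (CommRingCat.of k)), Y ⟶ Y) :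
    ℕ → ∀ Y : Over (Spec (CommRingCat.of k)), Y ⟶ Y
  | 0, Y => 𝟙 Y
  | r + 1, Y => iter F r Y ≫ F Y

theorem iter_nat {F : ∀ Y : Sch, Y ⟶ Y} (hnat : ∀ {Y Z : Sch} (f : Y ⟶ Z), F Y ≫ f = f ≫ F Z) :
    ∀ (r : ℕ) {Y Z : Sch} (f : Y ⟶ Z), iter F r Y ≫ f = f ≫ iter F r Z
  | 0, _, _, f => by simp [iter]
  | r + 1, Y, Z, f => by
    show (iter F r Y ≫ F Y) ≫ f = f ≫ iter F r Z ≫ F Z
    rw [Category.assoc, hnat, ← Category.assoc, iter_nat hnat r f, Category.assoc]

theorem ev_iter {F : ∀ Y : Sch, Y ⟶ Y} (hpow : ∀ Y : Sch, WeilLib.IsPowMap (F Y).left (Nat.card k)) :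
    ∀ (r : ℕ) (Y : Sch) (s : GrpSchLib.Kunneth.Fn Y),
      GrpSchLib.Kunneth.ev (iter F r Y) s = s ^ Nat.card k ^ r
  | 0, Y, s => by rw [pow_zero, pow_one]; rfl
  | r + 1, Y, s => by
    show GrpSchLib.Kunneth.ev (iter F r Y ≫ F Y) s = _
    rw [← GrpSchLib.Kunneth.ev_ev]
    have h1 : GrpSchLib.Kunneth.ev (F Y) s = s ^ Nat.card k := by
      rw [GrpSchLib.Kunneth.ev_apply]
      show ((F Y).left.app ⊤).hom s = _
      rw [Scheme.Hom.app_eq_appLE]
      exact (hpow Y).app ⊤ le_top s
    rw [h1, map_pow, ev_iter hpow r Y s, ← pow_mul, ← pow_succ]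

open GrpSchLib.Kunneth in
/-- On an affine commutative group a power of Frobenius is a power map up to `p`-torsion. -/
theorem exists_frob_eq_pow {F : ∀ Y : Sch, Y ⟶ Y} (hnat : ∀ {Y Z : Sch} (f : Y ⟶ Z), F Y ≫ f = f ≫ F Z)
    (hpow : ∀ Y : Sch, WeilLib.IsPowMap (F Y).left (Nat.card k))
    (L : Sch) [GrpObj L] [IsCommMonObj L] [IsAffine L.left] [LocallyOfFiniteType L.hom]
    [AlgebraicGeometry.IsReduced L.left] :
    ∃ r P : ℕ, 0 < r ∧ 0 < P ∧ (iter F r L * ((𝟙 L) ^ (Nat.card k ^ r))⁻¹) ^ P = 1 := by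
  classical
  haveI := Fintype.ofFinite k
  obtain ⟨p, hp⟩ := CharP.exists k
  obtain ⟨e, hprime, he⟩ := FiniteField.card k p
  haveI : Fact p.Prime := ⟨hprime⟩
  haveI := hp
  have hq : Nat.card k = p ^ (e : ℕ) := by rw [Nat.card_eq_fintype_card, he]
  haveI := GrpSchLib.AntiAffine.isSeparated_grp L
  haveI : QuasiCompact L.hom := inferInstance
  obtain ⟨A, _, _, ⟨eG⟩⟩ := GrpSchLib.AffineHopf.exists_hopf L
  haveI : Algebra.FiniteType k (Fn L) := by
    have h1 : L.hom.appTop.hom.FiniteType := HasRingHomProperty.appTop (P := @LocallyOfFiniteType) L.hom inferInstance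
    have h2 : (str L).FiniteType := RingHom.FiniteType.comp h1 (RingHom.FiniteType.of_surjective _
      (ConcreteCategory.bijective_of_isIso (Scheme.ΓSpecIso (CommRingCat.of k)).inv).2)
    exact h2
  obtain ⟨gen, hgen⟩ := (Algebra.FiniteType.out : (⊤ : Subalgebra k (Fn L)).FG)
  choose n M hM hMf using fun f : Fn L => exists_matrix_faithful (G := L) f
  let Ω := AlgebraicClosure k
  let T : Sch := Over.mk (Spec.map (CommRingCat.ofHom (algebraMap k Ω)))
  let eT : Ω ≃ₐ[k] Fn T := GrpSchLib.LineGroups.spEquiv Ω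
  haveI : CharP Ω p := charP_of_injective_algebraMap (algebraMap k Ω).injective p
  let φ : (T ⟶ L) → Fn L → Ω := fun x s => eT.symm (ev x s)
  let m := gen.sup n
  have hm : ∀ f ∈ gen, n f ≤ p ^ m := fun f hf =>
    (Finset.le_sup hf).trans (Nat.lt_pow_self (Fact.out : p.Prime).one_lt).le
  have hmat : ∀ f ∈ gen, ∃ D : ℕ, 0 < D ∧ ∀ r : ℕ, D ∣ r → ∀ x : T ⟶ L,
      (((M f).map (φ x)) ^ p ^ m).map (fun a => a ^ Nat.card k ^ r) =
        (((M f).map (φ x)) ^ p ^ m) ^ Nat.card k ^ r := by
    intro f hf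
    have hmul : ∀ x y : T ⟶ L, (M f).map (φ (x * y)) = (M f).map (φ x) * (M f).map (φ y) := fun x y => by
      have h := congrArg (fun N => eT.symm.toAlgHom.toRingHom.mapMatrix N) ((hM f).mul T x y)
      simp only [map_mul] at h
      exact h
    have hone : (M f).map (φ (1 : T ⟶ L)) = 1 := by
      have h := congrArg (fun N => eT.symm.toAlgHom.toRingHom.mapMatrix N) ((hM f).one T)
      simp only [map_one] at h
      exact h
    obtain ⟨D, hD, h⟩ := exists_uniform (k := k) (e := (e : ℕ)) hq (Set.range fun x : T ⟶ L => (M f).map (φ x))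
      (by rintro _ ⟨x, rfl⟩
          exact IsUnit.of_mul_eq_one _ (show (M f).map (φ x) * (M f).map (φ x⁻¹) = 1 by
            rw [← hmul, mul_inv_cancel, hone]))
      (by rintro _ ⟨x, rfl⟩ _ ⟨y, rfl⟩
          show _ * _ = _ * _
          rw [← hmul, ← hmul, mul_comm x y])
      (hm f hf)
    exact ⟨D, hD, fun r hr x => h r hr _ ⟨x, rfl⟩⟩
  choose! D hD0 hD using hmat
  let r := ∏ f ∈ gen, D f
  let ψ : L ⟶ L := (iter F r L * ((𝟙 L) ^ (Nat.card k ^ r))⁻¹) ^ p ^ m
  refine ⟨r, p ^ m, Finset.prod_pos hD0, pow_pos hprime.pos _, ?_⟩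
  have hpt : ∀ x : T ⟶ L, x ≫ ψ = x ≫ (1 : L ⟶ L) := by
    intro x
    rw [MonObj.comp_one]
    refine GrpSchLib.LineGroups.ext_ev (AlgHom.ext_of_adjoin_eq_top hgen fun f hf => ?_)
    refine (hMf f T _ ?_)
    have e1 : x ≫ ψ = (x ≫ iter F r L) ^ p ^ m * ((x ^ p ^ m) ^ Nat.card k ^ r)⁻¹ := by
      show x ≫ (_ ^ p ^ m) = _
      rw [BC.comp_pow, MonObj.comp_mul, GrpObj.comp_inv, BC.comp_pow, Category.comp_id, mul_pow, inv_pow,
        ← pow_mul, ← pow_mul, mul_comm (Nat.card k ^ r)]
    rw [e1, (hM f).mul]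
    let Φ : Matrix (Fin (n f)) (Fin (n f)) (Fn T) →+* Matrix (Fin (n f)) (Fin (n f)) Ω :=
      eT.symm.toAlgHom.toRingHom.mapMatrix
    let μm : (T ⟶ L) →* Matrix (Fin (n f)) (Fin (n f)) (Fn T) :=
      { toFun := fun y => (M f).map (ev y)
        map_one' := (hM f).one T
        map_mul' := (hM f).mul T }
    show μm _ * μm _ = 1
    have hkey : Φ (μm ((x ≫ iter F r L) ^ p ^ m)) = Φ (μm ((x ^ p ^ m) ^ Nat.card k ^ r)) := by
      rw [map_pow μm, map_pow μm, map_pow μm, map_pow Φ, map_pow Φ, map_pow Φ]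
      have h2 : Φ (μm (x ≫ iter F r L)) = ((M f).map (φ x)).map fun a => a ^ Nat.card k ^ r := by
        ext i j
        show eT.symm (ev (x ≫ iter F r L) (M f i j)) = eT.symm (ev x (M f i j)) ^ _
        rw [← map_pow, ← map_pow, ← ev_ev, ev_iter hpow r L]
      have h3 : Φ (μm x) = (M f).map (φ x) := rfl
      rw [h2, h3, ← hD f hf r (Finset.dvd_prod_of_mem _ hf) x]
      let fr : Ω →+* Ω := iterateFrobenius Ω p ((e : ℕ) * r)
      have hfr : (fun a : Ω => a ^ Nat.card k ^ r) = ⇑fr := by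
        funext a; rw [hq, ← pow_mul]; rfl
      rw [hfr]
      exact (map_pow fr.mapMatrix _ _).symm
    have hinj : Function.Injective Φ := fun a b h => Matrix.ext fun i j =>
      eT.symm.injective (congrFun (congrFun h i) j)
    rw [hinj hkey, ← map_mul μm, mul_inv_cancel, map_one]
  haveI : JacobsonSpace L.left := LocallyOfFiniteType.jacobsonSpace L.hom
  refine Over.OverMorphism.ext (ext_of_fromSpecResidueField_eq ψ.left (1 : L ⟶ L).left L.hom
    (closedPoints L.left) ?_ (fun x hx => ?_) (by rw [Over.w, Over.w]))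
  · have h := JacobsonSpace.closure_inter_closedPoints_eq_closure (X := L.left) (S := Set.univ) isOpen_univ.isLocallyClosed
    rw [dense_iff_closure_eq]
    rwa [Set.univ_inter, closure_univ] at h
  · let P : Sch := Over.mk (L.left.fromSpecResidueField x ≫ L.hom)
    let y : P ⟶ L := Over.homMk (L.left.fromSpecResidueField x) rfl
    haveI : IsFinite P.hom := by
      haveI : IsClosedImmersion (L.left.fromSpecResidueField x) :=
        isClosed_singleton_iff_isClosedImmersion.mp hx
      haveI : LocallyOfFiniteType P.hom := inferInstanceAs (LocallyOfFiniteType (L.left.fromSpecResidueField x ≫ L.hom))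
      haveI : Subsingleton P.left := inferInstanceAs (Subsingleton (Spec (L.left.residueField x)))
      haveI : AlgebraicGeometry.IsReduced P.left := inferInstanceAs (AlgebraicGeometry.IsReduced (Spec (L.left.residueField x)))
      exact isFinite_iff_locallyOfFiniteType_of_jacobsonSpace.mpr inferInstance
    obtain ⟨a, ha⟩ : ∃ a : Γ(Spec (CommRingCat.of k), ⊤) ⟶ Γ(P.left, ⊤), a = P.hom.appTop := ⟨_, rfl⟩
    let κ := L.left.residueField x
    obtain ⟨b, hb⟩ := Spec.map_surjective P.hom
    letI : Algebra k κ := b.hom.toAlgebra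
    haveI : Module.Finite k κ := by
      haveI : IsFinite (Spec.map b) := by rw [hb]; infer_instance
      exact (IsFinite.SpecMap_iff b).mp inferInstance
    let em : κ →ₐ[k] Ω := IsAlgClosed.lift
    let z : T ⟶ P := Over.homMk (Spec.map (CommRingCat.ofHom em.toRingHom)) (by
      show Spec.map _ ≫ P.hom = Spec.map _
      rw [← hb, ← Spec.map_comp]
      congr 1
      exact CommRingCat.hom_ext em.comp_algebraMap)
    haveI : Epi (Spec.map (CommRingCat.ofHom em.toRingHom)) := by
      haveI : Flat (Spec.map (CommRingCat.ofHom em.toRingHom)) := by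
        letI := em.toRingHom.toAlgebra
        exact (HasRingHomProperty.Spec_iff (P := @Flat)).2 (RingHom.flat_algebraMap_iff.mpr inferInstance)
      haveI : Surjective (Spec.map (CommRingCat.ofHom em.toRingHom)) :=
        ⟨fun _ => ⟨IsLocalRing.closedPoint Ω, Subsingleton.elim _ _⟩⟩
      exact Flat.epi_of_flat_of_surjective _
    have h := congrArg CommaMorphism.left (hpt (z ≫ y))
    simp only [Over.comp_left, Category.assoc] at h
    exact (cancel_epi (Spec.map (CommRingCat.ofHom em.toRingHom))).mp h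

variable {A B : Over (Spec (CommRingCat.of k))} [GrpObj A] [IsCommMonObj A] [GrpObj B] [IsCommMonObj B]

/-- Polynomials in compatible endomorphisms are compatible. -/
theorem aeval_comp (f : A ⟶ B) [IsMonHom f] (φ : EndAV.End A) (ψ : EndAV.End B)
    (h : φ.toHom ≫ f = f ≫ ψ.toHom) (P : Polynomial ℤ) :
    (aeval φ P).toHom ≫ f = f ≫ (aeval ψ P).toHom := by
  let a : EndAV.Hom A B := EndAV.Hom.of f
  have h' : (φ ≫ a : EndAV.Hom A B) = a ≫ ψ := EndAV.Hom.ext h
  suffices H : ((aeval φ P : EndAV.End A) ≫ a : EndAV.Hom A B) = a ≫ (aeval ψ P : EndAV.End B) from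
    congrArg EndAV.Hom.toHom H
  induction P using Polynomial.induction_on with
  | C c =>
    simp only [Polynomial.aeval_C, eq_intCast]
    rw [map_intCast, map_intCast, show ((c : EndAV.End A)) = c • (1 : EndAV.End A) from (zsmul_one c).symm,
      show ((c : EndAV.End B)) = c • (1 : EndAV.End B) from (zsmul_one c).symm,
      CategoryTheory.Preadditive.zsmul_comp, CategoryTheory.Preadditive.comp_zsmul]
    congr 1
  | add P Q hP hQ =>
    rw [map_add, map_add, CategoryTheory.Preadditive.add_comp, CategoryTheory.Preadditive.comp_add, hP, hQ]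
  | monomial i c hP =>
    rw [pow_succ', ← mul_assoc, mul_comm (C c) X, mul_assoc, map_mul _ X, map_mul _ X, Polynomial.aeval_X, Polynomial.aeval_X,
      End.mul_def, End.mul_def, Category.assoc, h', ← Category.assoc, hP, Category.assoc]

omit [Finite k] in
theorem exists_bezout {q r : ℕ} (hq : 1 < q) (hr : 0 < r) {ν : Polynomial ℤ}
    (hν : ν.Monic) (h : ∀ w ∈ (ν.map (Int.castRingHom ℂ)).roots, Complex.normSq w = q) :
    ∃ (a b : Polynomial ℤ) (N : ℤ), N ≠ 0 ∧ a * ν + b * (X ^ r - C ((q : ℤ) ^ r)) = C N := by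
  classical
  set g : Polynomial ℤ := X ^ r - C ((q : ℤ) ^ r)
  have hco : IsCoprime (ν.map (Int.castRingHom ℚ)) (g.map (Int.castRingHom ℚ)) := by
    rw [Polynomial.isCoprime_iff_aeval_ne_zero_of_isAlgClosed _ ℂ]
    intro z
    by_contra! hz
    obtain ⟨h1, h2⟩ := hz
    rw [← algebraMap_int_eq ℚ, Polynomial.aeval_map_algebraMap, Polynomial.aeval_def, algebraMap_int_eq] at h1 h2
    have hn := h z (Polynomial.mem_roots (hν.map _).ne_zero |>.mpr (by rw [Polynomial.IsRoot, Polynomial.eval_map]; exact h1))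
    simp only [g, Polynomial.eval₂_sub, Polynomial.eval₂_pow, Polynomial.eval₂_X, Polynomial.eval₂_C,
      map_natCast, map_pow, Polynomial.eval₂_natCast, sub_eq_zero] at h2
    have h3 := congrArg Complex.normSq h2
    rw [map_pow, map_pow, hn, Complex.normSq_natCast, pow_left_inj₀ (Nat.cast_nonneg q) (by positivity) hr.ne'] at h3
    have h4 : (q : ℝ) = q * q := h3
    have h5 : (1 : ℝ) < q := by exact_mod_cast hq
    nlinarith
  obtain ⟨a, b, hab⟩ := hco
  obtain ⟨ca, hca⟩ := IsLocalization.integerNormalization_map_to_map (nonZeroDivisors ℤ) a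
  obtain ⟨cb, hcb⟩ := IsLocalization.integerNormalization_map_to_map (nonZeroDivisors ℤ) b
  set a' := IsLocalization.integerNormalization (nonZeroDivisors ℤ) a
  set b' := IsLocalization.integerNormalization (nonZeroDivisors ℤ) b
  refine ⟨C (cb : ℤ) * a', C (ca : ℤ) * b', (ca : ℤ) * cb,
    mul_ne_zero (nonZeroDivisors.coe_ne_zero ca) (nonZeroDivisors.coe_ne_zero cb), ?_⟩
  apply Polynomial.map_injective (Int.castRingHom ℚ) Int.cast_injective
  simp only [algebraMap_int_eq, Submonoid.smul_def, zsmul_eq_mul] at hca hcb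
  simp only [Polynomial.map_add, Polynomial.map_mul, Polynomial.map_C, map_mul, hca, hcb, Polynomial.C_mul]
  rw [show (((ca : ℤ)) : Polynomial ℚ) = C ((Int.castRingHom ℚ) (ca : ℤ)) by simp,
    show (((cb : ℤ)) : Polynomial ℚ) = C ((Int.castRingHom ℚ) (cb : ℤ)) by simp]
  linear_combination ((Polynomial.C ((Int.castRingHom ℚ) (ca : ℤ))) * Polynomial.C ((Int.castRingHom ℚ) (cb : ℤ))) * hab

/-- An anti-affine group over a finite field is proper. -/
theorem isProper_of_antiAffine (G : Sch) [GrpObj G] [LocallyOfFiniteType G.hom] [QuasiCompact G.hom]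
    (hG : Function.Bijective G.hom.appTop) : IsProper G.hom := by
  haveI := GrpSchLib.AntiAffine.isSeparated_grp G
  haveI : Smooth G.hom := GrpSchLib.AntiAffineSmooth.smooth hG
  haveI : ConnectedSpace G.left := GrpSchLib.AntiAffine.connectedSpace_of_bijective hG
  haveI : IsCommMonObj G := by
    refine ⟨?_⟩
    have h := GrpSchLib.AntiAffine.commute hG (𝟙 G) (by rw [Category.comp_id]; exact MonObj.one_eq_one (M := G))
      (snd G G) (fst G G)
    rw [Category.comp_id, Hom.mul_def, Hom.mul_def] at h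
    rw [lift_fst_snd, Category.id_comp] at h
    refine Eq.trans ?_ h
    congr 1
  obtain ⟨L, _, l, A, _, π, hl, hπ, hπs, hπf, hk, hAp, hAs, hAc⟩ := BC.exists_chevalley_perfect G
  haveI := hl.hom; haveI := hl.closed; haveI := hl.smooth; haveI : IsAffine L.left := hl.prop
  haveI := hπ; haveI := hπs; haveI := hπf; haveI := hAp; haveI := hAs; haveI := hAc
  haveI : Mono l := Over.mono_of_mono_left _
  haveI : IsCommMonObj L := BC.isCommMonObj_of_mono l fun T a b => mul_comm _ _
  haveI : AlgebraicGeometry.IsReduced L.left := GrpSchLib.isReduced_of_smooth_field L.hom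
  haveI : GeometricallyIntegral A.hom := AlbQuotLib.geometricallyIntegral A
  haveI : IsCommMonObj A := isCommMonObj_of_isProper_of_geometricallyIntegral A
  obtain ⟨F, hnat, hFhom, hpow⟩ := exists_natFrob (k := k)
  haveI := hFhom G; haveI := hFhom A
  let fG : EndAV.End G := EndAV.End.of (F G)
  let fA : EndAV.End A := EndAV.End.of (F A)
  obtain ⟨r, P, hr, hP, hrel⟩ := exists_frob_eq_pow hnat hpow L
  obtain ⟨ν, hνm, hν0, -, hli⟩ := AVCharpoly.exists_int_minpoly fA
  obtain ⟨a, b, N, hN, hab⟩ := exists_bezout (q := Nat.card k) (r := r) Finite.one_lt_card hr hνm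
    (AVFrobLib.norm_and_simple fA (hpow A) hνm hν0 hli).1
  have hνG : aeval fG ν = 0 := by
    have h1 := aeval_comp π fG fA (hnat π) ν
    rw [hν0] at h1
    have h2 : (aeval fG ν).toHom ≫ π = 1 := h1.trans (MonObj.comp_one _)
    let t := hk.lift (aeval fG ν).toHom (toUnit G) (h2.trans Hom.one_def)
    have ht : t ≫ l = (aeval fG ν).toHom := hk.lift_fst _ _ _
    haveI : IsMonHom t := LargeNormal.isMonHom_of_mul _ fun T x y => by
      rw [← cancel_mono l, Category.assoc, ht, MonObj.mul_comp, MonObj.mul_comp, Category.assoc, Category.assoc, ht]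
    refine EndAV.End.ext ?_
    rw [← ht, GrpSchLib.Rosenlicht.hom_affine_eq_one hG t, MonObj.one_comp]
    rfl
  have hiter : ∀ i, (fG ^ i).toHom = iter F i G := by
    intro i
    induction i with
    | zero => rfl
    | succ i ih => rw [pow_succ', EndAV.End.toHom_mul, ih]; rfl
  have hg : l ≫ (aeval fG ((X ^ r - C ((Nat.card k : ℤ) ^ r)) * C (P : ℤ))).toHom = 1 := by
    have e : (aeval fG ((X ^ r - C ((Nat.card k : ℤ) ^ r)) * C (P : ℤ))).toHom =
        (iter F r G * ((𝟙 G) ^ (Nat.card k ^ r))⁻¹) ^ P := by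
      rw [mul_comm, map_mul, Polynomial.aeval_C, map_sub, map_pow, Polynomial.aeval_X, Polynomial.aeval_C,
        eq_intCast, eq_intCast, Int.cast_natCast, ← Nat.cast_pow, Int.cast_natCast, EndAV.End.toHom_mul,
        EndAV.End.toHom_natCast, BC.comp_pow, Category.comp_id]
      congr 1
      show (fG ^ r).toHom / ((Nat.card k ^ r : ℕ) : EndAV.End G).toHom = _
      rw [hiter, EndAV.End.toHom_natCast, div_eq_mul_inv]
    rw [e, BC.comp_pow, MonObj.comp_mul, GrpObj.comp_inv, BC.comp_pow, Category.comp_id]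
    have h := congrArg (· ≫ l) hrel
    simp only [MonObj.one_comp, BC.pow_comp, MonObj.mul_comp, GrpObj.inv_comp, Category.id_comp,
      iter_nat hnat] at h
    exact h
  have hlN : l ≫ (((N * P : ℤ)) : EndAV.End G).toHom = 1 := by
    have h : ((N * P : ℤ) : EndAV.End G) = aeval fG b * aeval fG ((X ^ r - C ((Nat.card k : ℤ) ^ r)) * C (P : ℤ)) := by
      have h := congrArg (fun Q => aeval fG (Q * C (P : ℤ))) hab
      simp only [add_mul, map_add, mul_assoc, map_mul, hνG, zero_mul, mul_zero, zero_add] at h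
      rw [← eq_intCast (algebraMap ℤ (EndAV.End G)), map_mul]
      simpa [map_mul, mul_assoc] using h.symm
    rw [h, EndAV.End.toHom_mul, ← Category.assoc, hg, MonObj.one_comp]
  let n := (N * P : ℤ).natAbs
  have hn : 0 < n := Int.natAbs_pos.mpr (mul_ne_zero hN (Int.natCast_ne_zero.mpr hP.ne'))
  have hln : l ≫ (𝟙 G) ^ n = 1 := by
    rw [EndAV.End.toHom_intCast] at hlN
    rcases Int.natAbs_eq (N * P : ℤ) with h | h <;> rw [h] at hlN
    · rwa [zpow_natCast] at hlN
    · rwa [zpow_neg, zpow_natCast, GrpObj.comp_inv, inv_eq_one] at hlN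
  haveI : IsMonHom ((𝟙 G) ^ n : G ⟶ G) := LargeNormal.isMonHom_of_mul _ fun T x y => by
    simp only [BC.comp_pow, Category.comp_id, mul_pow]
  obtain ⟨u, -, hu, -⟩ := S3280.result k G L A G π l hk ((𝟙 G) ^ n) (hln.trans Hom.one_def)
  haveI : Surjective u.left := by
    let φ : Spec (CommRingCat.of (AlgebraicClosure k)) ⟶ Spec (CommRingCat.of k) :=
      Spec.map (CommRingCat.ofHom (algebraMap k (AlgebraicClosure k)))
    haveI : LocallyOfFiniteType (Red.bc φ G).hom := inferInstanceAs (LocallyOfFiniteType (pullback.snd G.hom φ))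
    haveI : QuasiCompact (Red.bc φ G).hom := inferInstanceAs (QuasiCompact (pullback.snd G.hom φ))
    have hbc : Function.Bijective (Red.bc φ G).hom.appTop := GrpSchLib.AntiAffine.bijective_appTop_snd hG φ
    have hs := BC.surjective_pow hbc hn
    have h1 : (𝟙 (Red.bc φ G)) ^ n = (Over.pullback φ).map ((𝟙 G) ^ n) := by
      show _ = (Over.pullback φ).homMonoidHom _
      rw [map_pow]
      congr 1
      exact ((Over.pullback φ).map_id G).symm
    rw [h1] at hs
    haveI : Surjective φ := ⟨fun x => ⟨IsLocalRing.closedPoint (AlgebraicClosure k), Subsingleton.elim _ _⟩⟩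
    haveI : Surjective ((pullback.fst G.hom φ) ≫ ((𝟙 G) ^ n : G ⟶ G).left) := by
      rw [← LargeNormal.map_fst]; infer_instance
    haveI : Surjective (π.left ≫ u.left) := by
      rw [← Over.comp_left, hu]; exact Surjective.of_comp (pullback.fst G.hom φ) _
    exact Surjective.of_comp π.left u.left
  exact BC.isProper_of_surjective u

end Groth.Agent.Chevalley.FF
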