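import Groth.Agent.GrpSchLib.MatrixCoeff

/-! Faithful matrix representations cut out by a function on a group scheme over a field. -/

universe u

open CategoryTheory Limits AlgebraicGeometry MonoidalCategory CartesianMonoidalCategory MonObj GrpObj

namespace Groth.Agent.GrpSchLib.Kunneth

variable {k : Type u} [Field k] {G : Over (Spec (CommRingCat.of k))} [GrpObj G]

variable [QuasiCompact G.hom]

set_option maxHeartbeats 1000000 in
/-- Every function lies in a finite space of functions stable under translations. -/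
theorem exists_matrix_faithful (f : Fn G) :
    ∃ (n : ℕ) (M : Matrix (Fin n) (Fin n) (Fn G)), IsRepMatrix M ∧ 
      ∀ (T : Over (Spec (CommRingCat.of k))) (g : T ⟶ G), M.map (ev g) = 1 → ev g f = ev (1 : T ⟶ G) f := by
  classical
  haveI := AntiAffine.isSeparated_grp G
  haveI : QuasiCompact (G ⊗ G).hom :=
    inferInstanceAs (QuasiCompact (pullback.fst G.hom G.hom ≫ G.hom))
  haveI : IsSeparated (G ⊗ G).hom :=
    inferInstanceAs (IsSeparated (pullback.fst G.hom G.hom ≫ G.hom))
  let b := Module.Basis.ofVectorSpace k (Fn G)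
  obtain ⟨s, a, hs⟩ := exists_expand (X := G) (Y := G) b (ev (fst G G * snd G G) f)
  have hexp : ∀ (T : Over (Spec (CommRingCat.of k))) (g h : T ⟶ G),
      ev (g * h) f = ∑ l ∈ s, ev g (a l) * ev h (b l) := by
    intro T g h
    have h1 := congrArg (ev (lift g h)) hs
    rw [map_sum, ev_ev, MonObj.comp_mul, lift_fst, lift_snd] at h1
    rw [h1]
    exact Finset.sum_congr rfl fun l _ => by rw [map_mul, ev_ev, ev_ev, lift_fst, lift_snd]
  choose t c hc using fun l => exists_expand (X := G) (Y := G) b (ev (fst G G * snd G G) (b l))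
  have hexp2 : ∀ (l) (T : Over (Spec (CommRingCat.of k))) (g h : T ⟶ G),
      ev (g * h) (b l) = ∑ m ∈ t l, ev g (c l m) * ev h (b m) := by
    intro l T g h
    have h1 := congrArg (ev (lift g h)) (hc l)
    rw [map_sum, ev_ev, MonObj.comp_mul, lift_fst, lift_snd] at h1
    rw [h1]
    exact Finset.sum_congr rfl fun m _ => by rw [map_mul, ev_ev, ev_ev, lift_fst, lift_snd]
  -- coefficients of the coefficients
  have hco : ∀ m ∈ s, ev (fst G G * snd G G) (a m) =
      ∑ l ∈ s, ev (fst G G) (a l) * (if m ∈ t l then ev (snd G G) (c l m) else 0) := by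
    let p := fst (G ⊗ G) G
    let j := snd (G ⊗ G) G
    let U := s ∪ s.biUnion t
    let A : _ → Fn (G ⊗ G) := fun m => (if m ∈ s then ev (fst G G * snd G G) (a m) else 0) -
      ∑ l ∈ s, ev (fst G G) (a l) * (if m ∈ t l then ev (snd G G) (c l m) else 0)
    have hz : ∑ m ∈ U, ev p (A m) * ev j (b m) = 0 := by
      have e1 := hexp ((G ⊗ G) ⊗ G) ((p ≫ fst G G) * (p ≫ snd G G)) j
      have e2 := hexp ((G ⊗ G) ⊗ G) (p ≫ fst G G) ((p ≫ snd G G) * j)
      rw [_root_.mul_assoc, e2, ← MonObj.comp_mul] at e1
      simp only [hexp2, Finset.mul_sum, ← ev_ev] at e1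
      have e3 : ∑ l ∈ s, ∑ m ∈ t l, ev p (ev (fst G G) (a l)) * (ev p (ev (snd G G) (c l m)) * ev j (b m)) =
          ∑ m ∈ U, ev p (∑ l ∈ s, ev (fst G G) (a l) * (if m ∈ t l then ev (snd G G) (c l m) else 0)) * ev j (b m) := by
        simp only [map_sum, Finset.sum_mul]
        rw [Finset.sum_comm (s := U)]
        refine Finset.sum_congr rfl fun l hl => ?_
        refine (Finset.sum_congr rfl fun m hm => ?_).trans
          (Finset.sum_subset (fun m hm => Finset.mem_union_right _ (Finset.mem_biUnion.2 ⟨l, hl, hm⟩)) fun m _ hm => by simp [hm])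
        simp [hm, _root_.mul_assoc]
      rw [e3] at e1
      simp only [A, map_sub, sub_mul, Finset.sum_sub_distrib]
      rw [e1, sub_eq_zero]
      refine ((Finset.sum_congr rfl fun m hm => by simp [hm]).trans
        (Finset.sum_subset Finset.subset_union_left fun m _ hm => by simp [hm])).symm
    intro m hm
    have := indep b.linearIndependent U A hz m (Finset.mem_union_left _ hm)
    simp only [A, if_pos hm, sub_eq_zero] at this
    exact this
  -- the stable space
  let V : Submodule k (Fn G) := Submodule.span k (a '' (s : Set _))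
  haveI : Module.Finite k V := Module.Finite.span_of_finite k (s.finite_toSet.image a)
  let n := Module.finrank k V
  let v := Module.finBasis k V
  let w : Fin n → Fn G := fun i => (v i : Fn G)
  have hw : LinearIndependent k w := v.linearIndependent.map' V.subtype (Submodule.ker_subtype V)
  let S : Submodule k (Fn (G ⊗ G)) :=
    { carrier := {z | ∃ m : Fin n → Fn G, z = ∑ i, ev (fst G G) (w i) * ev (snd G G) (m i)}
      add_mem' := by
        rintro _ _ ⟨m, rfl⟩ ⟨m', rfl⟩
        exact ⟨m + m', by simp [mul_add, Finset.sum_add_distrib]⟩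
      zero_mem' := ⟨0, by simp⟩
      smul_mem' := by
        rintro r _ ⟨m, rfl⟩
        exact ⟨r • m, by simp [Finset.smul_sum]⟩ }
  have hVS : ∀ x ∈ V, ev (fst G G * snd G G) x ∈ S := by
    intro x hx
    induction hx using Submodule.span_induction with
    | mem x hx =>
      obtain ⟨m, hm, rfl⟩ := hx
      rw [hco m hm]
      refine S.sum_mem fun l hl => ?_
      have hal : a l ∈ V := Submodule.subset_span ⟨l, hl, rfl⟩
      have := v.sum_repr ⟨a l, hal⟩
      refine ⟨fun i => v.repr ⟨a l, hal⟩ i • (if m ∈ t l then c l m else 0), ?_⟩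
      have h2 : a l = ∑ i, v.repr ⟨a l, hal⟩ i • w i := by
        have h3 := congrArg Subtype.val this
        rw [Submodule.coe_sum] at h3
        exact h3.symm
      conv_lhs => rw [h2, map_sum, Finset.sum_mul]
      refine Finset.sum_congr rfl fun i _ => ?_
      split_ifs <;> simp
    | zero => rw [map_zero]; exact S.zero_mem
    | add x y _ _ hx hy => rw [map_add]; exact S.add_mem hx hy
    | smul r x _ hx => rw [map_smul]; exact S.smul_mem r hx
  choose M hM using fun j => hVS (w j) (v j).2
  let N : Matrix (Fin n) (Fin n) (Fn G) := fun i j => M j i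
  have hN : ∀ (T : Over (Spec (CommRingCat.of k))) (g h : T ⟶ G) (j : Fin n),
      ev (g * h) (w j) = ∑ i, ev g (w i) * ev h (N i j) := by
    intro T g h j
    have h1 := congrArg (ev (lift g h)) (hM j)
    rw [map_sum, ev_ev, MonObj.comp_mul, lift_fst, lift_snd] at h1
    rw [h1]
    exact Finset.sum_congr rfl fun l _ => by rw [map_mul, ev_ev, ev_ev, lift_fst, lift_snd]
  have hmulG : N.map (ev (fst G G * snd G G)) = N.map (ev (fst G G)) * N.map (ev (snd G G)) := by
    refine Matrix.ext fun i j => ?_
    let g := snd (G ⊗ G) G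
    let p := fst (G ⊗ G) G
    have e1 := hN ((G ⊗ G) ⊗ G) g ((p ≫ fst G G) * (p ≫ snd G G)) j
    have e2 := hN ((G ⊗ G) ⊗ G) (g * (p ≫ fst G G)) (p ≫ snd G G) j
    rw [_root_.mul_assoc, e1, ← MonObj.comp_mul] at e2
    simp only [hN, Finset.sum_mul, _root_.mul_assoc] at e2
    rw [Finset.sum_comm] at e2
    simp only [← Finset.mul_sum, ← ev_ev, ← map_mul, ← map_sum] at e2
    have key := indep (X := G ⊗ G) (Y := G) hw Finset.univ
      (fun i => ev (fst G G * snd G G) (N i j) - ∑ l, ev (fst G G) (N i l) * ev (snd G G) (N l j)) (by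
        simp only [map_sub, sub_mul, Finset.sum_sub_distrib, sub_eq_zero]
        refine (Finset.sum_congr rfl fun x _ => _root_.mul_comm _ _).trans (Eq.trans ?_ (Finset.sum_congr rfl fun x _ => _root_.mul_comm _ _))
        exact e2) i (Finset.mem_univ i)
    simpa [Matrix.mul_apply] using sub_eq_zero.1 key
  have hone0 : ∀ i j, ev (η[G]) (N i j) = if i = j then 1 else 0 := by
    have hconst : ∀ x : Fn (𝟙_ (Over (Spec (CommRingCat.of k)))), ∃ r : k, algebraMap k _ r = x := fun x => by
      refine ⟨(Scheme.ΓSpecIso (CommRingCat.of k)).hom x, ?_⟩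
      show (𝟙 (Spec (CommRingCat.of k)) : _ ⟶ _).appTop ((Scheme.ΓSpecIso (CommRingCat.of k)).inv _) = x
      rw [← CommRingCat.comp_apply (Scheme.ΓSpecIso (CommRingCat.of k)).hom, Iso.hom_inv_id]
      simp
    choose r hr using hconst
    intro i j
    have e1 := hN G (𝟙 G) (toUnit G ≫ η[G]) j
    rw [show toUnit G ≫ η[G] = (1 : G ⟶ G) from rfl, _root_.mul_one] at e1
    have e2 : ∀ i, ev (1 : G ⟶ G) (N i j) = algebraMap k (Fn G) (r (ev η[G] (N i j))) := fun i => by
      show ev (toUnit G ≫ η[G]) _ = _
      rw [← ev_ev, ← hr (ev η[G] (N i j)), AlgHom.commutes, hr (ev η[G] (N i j))]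
    simp only [e2, ev_id] at e1
    have e3 : ∑ i, (r (ev η[G] (N i j)) - if i = j then 1 else 0) • w i = 0 := by
      simp only [sub_smul, Finset.sum_sub_distrib, ite_smul, one_smul, zero_smul, Finset.sum_ite_eq', Finset.mem_univ,
        if_true, sub_eq_zero]
      refine Eq.trans ?_ e1.symm
      exact Finset.sum_congr rfl fun i _ => by rw [Algebra.smul_def, _root_.mul_comm]
    have := sub_eq_zero.1 (Fintype.linearIndependent_iff.1 hw _ e3 i)
    rw [← hr (ev η[G] (N i j)), this]
    split_ifs <;> simp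
  refine ⟨n, N, ⟨fun T g h => ?_, fun T => Matrix.ext fun i j => ?_⟩, fun T g h1 => ?_⟩
  · have := congrArg (fun A : Matrix (Fin n) (Fin n) (Fn (G ⊗ G)) => A.map (ev (lift g h))) hmulG
    simp only [Matrix.map_mul, Matrix.map_map] at this
    have q : ∀ p : G ⊗ G ⟶ G, ⇑(ev (lift g h)) ∘ ⇑(ev p) = ⇑(ev (lift g h ≫ p)) := fun p => rfl
    simpa only [q, MonObj.comp_mul, lift_fst, lift_snd] using this
  · show ev (toUnit T ≫ η[G]) (N i j) = _
    rw [← ev_ev, hone0, Matrix.one_apply]
    split_ifs <;> simp
  · have hw' : ∀ j, ev g (w j) = ev (1 : T ⟶ G) (w j) := fun j => by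
      have e1 := hN T (1 : T ⟶ G) g j
      rw [_root_.one_mul] at e1
      have e2 : ∀ i, ev g (N i j) = if i = j then 1 else 0 := fun i => by
        have := congrFun (congrFun h1 i) j
        rwa [Matrix.map_apply, Matrix.one_apply] at this
      simpa [e2] using e1
    have hV : ∀ x ∈ V, ev g x = ev (1 : T ⟶ G) x := fun x hx => by
      have := congrArg Subtype.val (v.sum_repr ⟨x, hx⟩)
      rw [show x = _ from this.symm, Submodule.coe_sum, map_sum, map_sum]
      exact Finset.sum_congr rfl fun i _ => by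
        rw [Submodule.coe_smul, map_smul, map_smul]; exact congrArg _ (hw' i)
    have e := hexp T g 1
    have e' := hexp T 1 1
    rw [_root_.mul_one] at e e'
    rw [e, e']
    exact Finset.sum_congr rfl fun l hl => by rw [hV (a l) (Submodule.subset_span ⟨l, hl, rfl⟩)]

end Groth.Agent.GrpSchLib.Kunneth
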